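import Groth.Agent.AdicBasics.LocalMap
import Groth.Agent.AdicLim.Noetherian
import Mathlib

/-!
# Unramified and étale local homomorphisms read on completions
-/

set_option autoImplicit false
set_option linter.style.haveILetI false

universe u

open IsLocalRing Submodule

namespace Groth.Agent.EtCompletion

/-- Over a complete local ring, an algebra with finite closed fibre field is module-finite. -/
theorem finite_of_map_maximal (A B : Type u) [CommRing A] [IsLocalRing A] [IsNoetherianRing A]
    [IsAdicComplete (maximalIdeal A) A] [CommRing B] [IsLocalRing B] [IsNoetherianRing B] [Algebra A B]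
    [IsLocalHom (algebraMap A B)]
    (h : (maximalIdeal A).map (algebraMap A B) = maximalIdeal B)
    [Module.Finite (ResidueField A) (ResidueField B)] : Module.Finite A B := by
  haveI : IsHausdorff (maximalIdeal A) B := (IsHausdorff.map_algebraMap_iff (S := B) (M := B)).mp (by
    rw [h]; infer_instance)
  haveI : Module.Finite A (ResidueField B) :=
    Module.Finite.trans (ResidueField A) (ResidueField B)
  obtain ⟨n, s, hs⟩ := Module.Finite.exists_fin (R := A) (M := ResidueField B)
  choose b hb using fun i => residue_surjective (R := B) (s i)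
  haveI : IsAdicComplete (maximalIdeal A) (Fin n → A) := AdicLim.isAdicComplete_of_finite _ _
  let f : (Fin n → A) →ₗ[A] B := Fintype.linearCombination A b
  refine Module.Finite.of_surjective f (surjective_of_mkQ_comp_surjective (I := maximalIdeal A) ?_)
  intro y
  obtain ⟨y, rfl⟩ := Submodule.mkQ_surjective _ y
  have hy : residue B y ∈ span A (Set.range s) := hs ▸ trivial
  obtain ⟨c, hc⟩ := (Submodule.mem_span_range_iff_exists_fun A).1 hy
  refine ⟨c, ?_⟩
  rw [LinearMap.comp_apply, Submodule.mkQ_apply, Submodule.mkQ_apply, Submodule.Quotient.eq,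
    Ideal.smul_top_eq_map, Submodule.restrictScalars_mem, h, ← residue_eq_zero_iff, map_sub, ← hc]
  simp only [f, Fintype.linearCombination_apply, map_sum]
  rw [sub_eq_zero]
  exact Finset.sum_congr rfl fun i _ => by
    rw [Algebra.smul_def, map_mul, hb, Algebra.smul_def]
    rfl

/-- Finiteness and separability of the residue extension, on completions. -/
theorem residue_iff {A B : Type u} [CommRing A] [CommRing B] [IsLocalRing A] [IsLocalRing B]
    [IsNoetherianRing A] [IsNoetherianRing B] [Algebra A B] [IsLocalHom (algebraMap A B)]
    [Algebra (AdicCompletion (maximalIdeal A) A) (AdicCompletion (maximalIdeal B) B)]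
    [IsLocalHom (algebraMap (AdicCompletion (maximalIdeal A) A) (AdicCompletion (maximalIdeal B) B))]
    (hψ : (algebraMap (AdicCompletion (maximalIdeal A) A) (AdicCompletion (maximalIdeal B) B)).comp
      (algebraMap A _) = (algebraMap B (AdicCompletion (maximalIdeal B) B)).comp (algebraMap A B)) :
    (Module.Finite (ResidueField (AdicCompletion (maximalIdeal A) A))
        (ResidueField (AdicCompletion (maximalIdeal B) B)) ↔
      Module.Finite (ResidueField A) (ResidueField B)) ∧
    (Algebra.IsSeparable (ResidueField (AdicCompletion (maximalIdeal A) A))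
        (ResidueField (AdicCompletion (maximalIdeal B) B)) ↔
      Algebra.IsSeparable (ResidueField A) (ResidueField B)) := by
  let eA := RingEquiv.ofBijective _ (AdicCompletion.residueField_map_bijective A)
  let eB := RingEquiv.ofBijective _ (AdicCompletion.residueField_map_bijective B)
  have he : (algebraMap (ResidueField (AdicCompletion (maximalIdeal A) A))
      (ResidueField (AdicCompletion (maximalIdeal B) B))).comp eA.toRingHom =
      eB.toRingHom.comp (algebraMap (ResidueField A) (ResidueField B)) := by
    ext x
    obtain ⟨a, rfl⟩ := IsLocalRing.residue_surjective x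
    exact congrArg (residue _) (congr($hψ a))
  have he' : (algebraMap (ResidueField A) (ResidueField B)).comp eA.symm.toRingHom =
      eB.symm.toRingHom.comp (algebraMap (ResidueField (AdicCompletion (maximalIdeal A) A))
        (ResidueField (AdicCompletion (maximalIdeal B) B))) := by
    ext x
    apply eB.injective
    have := congr($he (eA.symm x))
    simp only [RingHom.comp_apply, RingEquiv.toRingHom_eq_coe, RingEquiv.coe_toRingHom,
      RingEquiv.apply_symm_apply] at this ⊢
    exact this.symm
  exact ⟨⟨fun _ => Module.Finite.of_equiv_equiv eA.symm eB.symm he',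
    fun _ => Module.Finite.of_equiv_equiv eA eB he⟩,
    ⟨fun _ => Algebra.IsSeparable.of_equiv_equiv eA.symm eB.symm he',
    fun _ => Algebra.IsSeparable.of_equiv_equiv eA eB he⟩⟩

variable {A B : Type u} [CommRing A] [CommRing B] [IsLocalRing A] [IsLocalRing B]
  [IsNoetherianRing A] [IsNoetherianRing B] [Algebra A B] [IsLocalHom (algebraMap A B)]
  (ψ : AdicCompletion (maximalIdeal A) A →+* AdicCompletion (maximalIdeal B) B)
  (hψ : ψ.comp (algebraMap A (AdicCompletion (maximalIdeal A) A)) =
    (algebraMap B (AdicCompletion (maximalIdeal B) B)).comp (algebraMap A B))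

include hψ in
theorem finite_of_unramified
    (h : (maximalIdeal A).map (algebraMap A B) = maximalIdeal B)
    [Module.Finite (ResidueField A) (ResidueField B)] : ψ.Finite := by
  letI := ψ.toAlgebra
  haveI : IsLocalHom (algebraMap (AdicCompletion (maximalIdeal A) A) (AdicCompletion (maximalIdeal B) B)) :=
    AdicBasics.isLocalHom_completionMap _ ψ hψ
  haveI := (residue_iff (A := A) (B := B) hψ).1.2 inferInstance
  refine finite_of_map_maximal _ _ ?_
  exact (AdicBasics.map_max_eq _ ψ hψ).trans (by rw [h, AdicCompletion.maximalIdeal_eq_map])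

include hψ in
theorem unramified_iff :
    ((maximalIdeal A).map (algebraMap A B) = maximalIdeal B ∧
      Module.Finite (ResidueField A) (ResidueField B) ∧
      Algebra.IsSeparable (ResidueField A) (ResidueField B)) ↔
      (ψ.FiniteType ∧ ψ.FormallyUnramified) := by
  letI := ψ.toAlgebra
  let A' := AdicCompletion (maximalIdeal A) A
  let B' := AdicCompletion (maximalIdeal B) B
  haveI : IsLocalHom (algebraMap A' B') := AdicBasics.isLocalHom_completionMap _ ψ hψ
  have hm := AdicBasics.map_max_eq _ ψ hψ
  constructor
  · rintro ⟨h1, h2, h3⟩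
    haveI : Module.Finite A' B' := finite_of_unramified ψ hψ h1
    haveI := (residue_iff (A := A) (B := B) hψ).2.2 h3
    have hu : Algebra.FormallyUnramified A' B' := Algebra.FormallyUnramified.of_map_maximalIdeal
      (hm.trans (by rw [h1, AdicCompletion.maximalIdeal_eq_map]))
    have hft : Algebra.FiniteType A' B' := inferInstance
    exact ⟨hft, hu⟩
  · rintro ⟨hft, hu⟩
    haveI : Algebra.FiniteType A' B' := hft
    haveI : Algebra.FormallyUnramified A' B' := hu
    have h1 : (maximalIdeal A').map (algebraMap A' B') = maximalIdeal B' :=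
      Algebra.FormallyUnramified.map_maximalIdeal
    haveI : Module.FaithfullyFlat B B' := Module.FaithfullyFlat.of_flat_of_isLocalHom
    refine ⟨?_, (residue_iff (A := A) (B := B) hψ).1.1 inferInstance, (residue_iff (A := A) (B := B) hψ).2.1 inferInstance⟩
    have h2 := (hm.symm.trans h1).trans (AdicCompletion.maximalIdeal_eq_map (R := B))
    have := congrArg (Ideal.comap (algebraMap B B')) h2
    rwa [Ideal.comap_map_eq_self_of_faithfullyFlat, Ideal.comap_map_eq_self_of_faithfullyFlat] at this

include hψ in
theorem etale_iff :
    (Module.Flat A B ∧ (maximalIdeal A).map (algebraMap A B) = maximalIdeal B ∧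
      Module.Finite (ResidueField A) (ResidueField B) ∧
      Algebra.IsSeparable (ResidueField A) (ResidueField B)) ↔ ψ.Etale := by
  letI := ψ.toAlgebra
  let A' := AdicCompletion (maximalIdeal A) A
  let B' := AdicCompletion (maximalIdeal B) B
  have hflat := AdicBasics.flat_completionMap_iff (algebraMap A B) ψ hψ
  constructor
  · rintro ⟨h0, h⟩
    obtain ⟨hft, hu⟩ := (unramified_iff ψ hψ).1 h
    haveI : Algebra.FiniteType A' B' := hft
    haveI : Algebra.FormallyUnramified A' B' := hu
    haveI : Algebra.FinitePresentation A' B' := Algebra.FinitePresentation.of_finiteType.1 inferInstance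
    haveI : Module.Flat A' B' := hflat.2 (RingHom.flat_algebraMap_iff.2 h0)
    exact (Algebra.Etale.of_formallyUnramified_of_flat : Algebra.Etale A' B')
  · intro he
    haveI : Algebra.Etale A' B' := he
    refine ⟨RingHom.flat_algebraMap_iff.1 (hflat.1 (show Module.Flat A' B' from inferInstance)), ?_⟩
    exact (unramified_iff ψ hψ).2 ⟨(inferInstance : Algebra.FiniteType A' B'),
      (inferInstance : Algebra.FormallyUnramified A' B')⟩

include hψ in
theorem exists_basis_of_etale (he : ψ.Etale) :
    letI := ψ.toAlgebra
    ∃ n : ℕ, 0 < n ∧ Nonempty ((Fin n → AdicCompletion (maximalIdeal A) A) ≃ₗ[AdicCompletion (maximalIdeal A) A]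
      AdicCompletion (maximalIdeal B) B) := by
  letI := ψ.toAlgebra
  let A' := AdicCompletion (maximalIdeal A) A
  let B' := AdicCompletion (maximalIdeal B) B
  obtain ⟨-, h1, h2, -⟩ := (etale_iff ψ hψ).2 he
  haveI : Module.Finite A' B' := finite_of_unramified ψ hψ h1
  haveI : Algebra.Etale A' B' := he
  haveI : Module.Free A' B' := Module.free_of_flat_of_isLocalRing
  let e := (Module.finBasis A' B').equivFun.symm
  refine ⟨Module.finrank A' B', Nat.pos_of_ne_zero fun h => ?_, ⟨e⟩⟩
  haveI : IsEmpty (Fin (Module.finrank A' B')) := by rw [h]; infer_instance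
  exact not_subsingleton B' e.symm.injective.subsingleton

end Groth.Agent.EtCompletion
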